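import Groth.Agent.Alb96.GeomInt
import Groth.Agent.AlgGrp79.Image
import Groth.Agent.Grp57.Connected

/-!
The largest abelian subvariety of a commutative group scheme over a field.
-/

universe u

open CategoryTheory CategoryTheory.Limits MonoidalCategory CartesianMonoidalCategory MonObj GrpObj AlgebraicGeometry

set_option autoImplicit false

namespace Groth.Agent.Alb96

/-- Generalisations of a point on a locally Noetherian scheme satisfy the minimum condition. -/
theorem exists_minimal_generization {X : Scheme.{u}} [IsLocallyNoetherian X] (x : X) {P : X → Prop}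
    (hP : ∀ y, P y → y ⤳ x) (hne : ∃ y, P y) :
    ∃ y, P y ∧ ∀ z, P z → z ⤳ y → z = y := by
  classical
  have hr : ∀ y : X, y ⤳ x → ∃ p, X.fromSpecStalk x p = y := fun y hy => by
    have := Scheme.range_fromSpecStalk (X := X) (x := x)
    exact (this.ge (show y ∈ {z | z ⤳ x} from hy))
  let H : Set ℕ∞ := {h | ∃ (p : Spec (X.presheaf.stalk x)), P (X.fromSpecStalk x p) ∧
    h = Ideal.height p.asIdeal}
  have hH : H.Nonempty := by
    obtain ⟨y, hy⟩ := hne
    obtain ⟨p, rfl⟩ := hr y (hP y hy)
    exact ⟨_, p, hy, rfl⟩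
  obtain ⟨h, ⟨p, hp, rfl⟩, hmin⟩ := WellFounded.has_min (wellFounded_lt (α := ℕ∞)) H hH
  refine ⟨_, hp, fun z hz hzy => ?_⟩
  obtain ⟨q, rfl⟩ := hr z (hP z hz)
  rw [(X.fromSpecStalk x).isEmbedding.isInducing.specializes_iff] at hzy
  have hle : q.asIdeal ≤ p.asIdeal := (PrimeSpectrum.le_iff_specializes q p).2 hzy
  rcases hle.eq_or_lt with h1 | h1
  · rw [show q = p from PrimeSpectrum.ext h1]
  · have : q.asIdeal.IsPrime := q.isPrime
    exact absurd (Ideal.height_strict_mono_of_isPrime h1) (hmin _ ⟨q, hz, rfl⟩)

variable {k : Type u} [Field k]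

/-- A morphism from a reduced scheme lifts to a closed subscheme containing its image. -/
theorem exists_lift_of_range_subset {A M G : Over (Spec (CommRingCat.of k))} [IsReduced A.left]
    (i : M ⟶ G) [IsClosedImmersion i.left] (φ : A ⟶ G) (h : Set.range φ.left ⊆ Set.range i.left) :
    ∃ ψ : A ⟶ M, ψ ≫ i = φ := by
  have : Surjective (pullback.snd i.left φ.left) := ⟨fun a => by
    obtain ⟨m, hm⟩ := h ⟨a, rfl⟩
    obtain ⟨z, -, hz⟩ := Scheme.Pullback.exists_preimage_pullback m a hm
    exact ⟨z, hz⟩⟩
  have := isIso_of_isClosedImmersion_of_surjective (pullback.snd i.left φ.left)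
  have e : (inv (pullback.snd i.left φ.left) ≫ pullback.fst i.left φ.left) ≫ i.left = φ.left := by
    rw [Category.assoc, pullback.condition, IsIso.inv_hom_id_assoc]
  refine ⟨Over.homMk (inv (pullback.snd i.left φ.left) ≫ pullback.fst i.left φ.left) ?_, Over.OverMorphism.ext e⟩
  rw [← Over.w i, ← Category.assoc, e, Over.w φ]

/-- A product of geometrically integral schemes is geometrically integral. -/
theorem geometricallyIntegral_tensor (A B : Over (Spec (CommRingCat.of k))) [GeometricallyIntegral A.hom]
    [LocallyOfFiniteType A.hom] [GeometricallyIntegral B.hom] :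
    GeometricallyIntegral (A ⊗ B).hom := by
  refine ⟨fun L _ y Z p q h => ?_⟩
  have : IsIntegral (pullback A.hom y) :=
    GeometricallyIntegral.geometrically_isIntegral _ _ _ (.of_hasPullback _ _)
  have : IsLocallyNoetherian (pullback A.hom y) :=
    LocallyOfFiniteType.isLocallyNoetherian (pullback.snd A.hom y)
  have : GeometricallyIntegral (pullback.fst A.hom B.hom) := inferInstance
  have : Flat (pullback.fst A.hom B.hom) := inferInstance
  have : UniversallyOpen (pullback.fst A.hom B.hom) := inferInstance
  let e : pullback (A ⊗ B).hom y ≅ pullback (pullback.fst A.hom B.hom) (pullback.fst A.hom y) :=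
    (pullback.congrHom (show (A ⊗ B).hom = pullback.fst A.hom B.hom ≫ A.hom from rfl) rfl) ≪≫
      (pullbackRightPullbackFstIso A.hom y (pullback.fst A.hom B.hom)).symm
  have hZ : IsIntegral Z := by
    let e' : Z ≅ pullback (pullback.fst A.hom B.hom) (pullback.fst A.hom y) := h.isoPullback ≪≫ e
    have : Nonempty Z := ⟨e'.inv (Nonempty.some inferInstance)⟩
    exact isIntegral_of_isOpenImmersion e'.hom
  exact hZ

/-- The schematic image of a homomorphism from an abelian variety. -/
theorem exists_image {A G : Over (Spec (CommRingCat.of k))} [GrpObj A] [IsProper A.hom]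
    [GeometricallyIntegral A.hom] [GrpObj G] [LocallyOfFiniteType G.hom]
    (φ : A ⟶ G) [IsMonHom φ] :
    ∃ (M : Over (Spec (CommRingCat.of k))) (_ : GrpObj M) (i : M ⟶ G), IsMonHom i ∧
      IsClosedImmersion i.left ∧ IsProper M.hom ∧ GeometricallyIntegral M.hom ∧
      Set.range i.left = Set.range φ.left := by
  have : IsSeparated G.hom := Grp57.isSeparated_of_field G
  have : IsProper (φ.left ≫ G.hom) := by rw [Over.w]; infer_instance
  have : IsProper φ.left := IsProper.of_comp φ.left G.hom
  let M : Over (Spec (CommRingCat.of k)) := Over.mk (φ.left.imageι ≫ G.hom)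
  let i : M ⟶ G := Over.homMk φ.left.imageι rfl
  let w : A ⟶ M := Over.homMk φ.left.toImage (by
    show φ.left.toImage ≫ φ.left.imageι ≫ G.hom = A.hom
    rw [Scheme.Hom.toImage_imageι_assoc, Over.w])
  have hwi : w ≫ i = φ := Over.OverMorphism.ext φ.left.toImage_imageι
  have : IsClosedImmersion i.left := inferInstanceAs (IsClosedImmersion φ.left.imageι)
  have : IsSchemeTheoreticallyDominant w.left := AlgGrp79.schDominant_toImage φ.left
  have : QuasiCompact w.left := inferInstanceAs (QuasiCompact φ.left.toImage)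
  have : IsProper (w.left ≫ i.left) := by rw [← Over.comp_left, hwi]; infer_instance
  have : IsProper w.left := IsProper.of_comp w.left i.left
  have : Surjective w.left := ⟨fun m => by
    have h1 : IsClosed (Set.range w.left) := w.left.isClosedMap.isClosed_range
    have h2 : closure (Set.range w.left) = Set.univ := w.left.denseRange.closure_eq
    rw [h1.closure_eq] at h2
    exact h2.ge (Set.mem_univ m)⟩
  obtain ⟨h1, h2⟩ := AlgGrp79.closed_of_dominant φ i w hwi
  have : Mono i.left := inferInstance
  have : Mono ((Over.forget _).map i) := this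
  have : Mono i := (Over.forget _).mono_of_mono_map this
  obtain ⟨gM, hi⟩ := AlgGrp79.exists_grpObj_closed i h1 h2
  have : UniversallyClosed (w.left ≫ M.hom) := by rw [Over.w]; infer_instance
  have : UniversallyClosed M.hom := UniversallyClosed.of_comp_surjective w.left M.hom
  have : LocallyOfFiniteType M.hom := inferInstanceAs (LocallyOfFiniteType (φ.left.imageι ≫ G.hom))
  have : IsSeparated M.hom := inferInstanceAs (IsSeparated (φ.left.imageι ≫ G.hom))
  have hM : IsProper M.hom := { }
  refine ⟨M, gM, i, hi, inferInstance, hM, ⟨fun L _ y Z p q h => ?_⟩, ?_⟩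
  · have : Flat p := MorphismProperty.of_isPullback (P := @Flat) h.flip inferInstance
    let P' := pullback A.hom y
    have hw' : w.left ≫ M.hom = A.hom := Over.w w
    let u : P' ⟶ Z := h.lift (pullback.fst A.hom y ≫ w.left) (pullback.snd A.hom y)
      (by rw [Category.assoc, hw', pullback.condition])
    have hu1 : u ≫ p = pullback.fst A.hom y ≫ w.left := h.lift_fst _ _ _
    have hu2 : u ≫ q = pullback.snd A.hom y := h.lift_snd _ _ _
    have hsq : IsPullback u (pullback.fst A.hom y) p w.left := by
      refine IsPullback.of_right ?_ hu1 h.flip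
      rw [hw', hu2]
      exact (IsPullback.of_hasPullback A.hom y).flip
    have : IsSchemeTheoreticallyDominant u :=
      IsSchemeTheoreticallyDominant.of_isPullback (f := w.left) (g := p) hsq.flip
    have : QuasiCompact u := MorphismProperty.of_isPullback (P := @QuasiCompact) hsq.flip ‹_›
    have : Surjective u := MorphismProperty.of_isPullback (P := @Surjective) hsq.flip ‹_›
    have : IsIntegral P' :=
      GeometricallyIntegral.geometrically_isIntegral _ _ _ (.of_hasPullback _ _)
    have : IsReduced Z := IsSchemeTheoreticallyDominant.isReduced u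
    have h3 : IsIrreducible (Set.univ : Set Z) := by
      rw [← (u.surjective).range_eq, ← Set.image_univ]
      exact (IrreducibleSpace.isIrreducible_univ _).image u u.continuous.continuousOn
    have : IrreducibleSpace Z := { isPreirreducible_univ := h3.2, toNonempty := ⟨h3.1.some⟩ }
    exact isIntegral_of_irreducibleSpace_of_isReduced Z
  · rw [← hwi, Over.comp_left, Scheme.Hom.comp_base, TopCat.coe_comp, Set.range_comp,
      (w.left.surjective).range_eq, Set.image_univ]

theorem range_subset_of_comp {A B G : Over (Spec (CommRingCat.of k))} (f : A ⟶ B) (φ : A ⟶ G)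
    (ψ : B ⟶ G) (h : f ≫ ψ = φ) : Set.range φ.left ⊆ Set.range ψ.left := by
  rintro _ ⟨a, rfl⟩
  exact ⟨f.left a, Grp57.left_apply' _ _ _ h a⟩

theorem exists_maximal_abelian (G : Over (Spec (CommRingCat.of k))) [GrpObj G] [IsCommMonObj G]
    [LocallyOfFiniteType G.hom] :
    ∃ (M : Over (Spec (CommRingCat.of k))) (_ : GrpObj M) (i : M ⟶ G), IsMonHom i ∧ IsClosedImmersion i.left ∧
      IsProper M.hom ∧ GeometricallyIntegral M.hom ∧
      ∀ (A : Over (Spec (CommRingCat.of k))) [GrpObj A] [IsProper A.hom] [GeometricallyReduced A.hom]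
        [ConnectedSpace ↥A.left] (φ : A ⟶ G), IsMonHom φ → ∃ ψ : A ⟶ M, ψ ≫ i = φ := by
  have : IsLocallyNoetherian G.left := LocallyOfFiniteType.isLocallyNoetherian G.hom
  have : IsSeparated G.hom := Grp57.isSeparated_of_field G
  let e : G.left := Grp57.unitPt G
  let P : G.left → Prop := fun g => ∃ (M : Over (Spec (CommRingCat.of k))) (_ : GrpObj M) (i : M ⟶ G),
    IsMonHom i ∧ IsClosedImmersion i.left ∧ IsProper M.hom ∧ GeometricallyIntegral M.hom ∧
    Set.range i.left = closure {g}
  have mkP : ∀ (A : Over (Spec (CommRingCat.of k))) [GrpObj A] [IsProper A.hom]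
      [GeometricallyIntegral A.hom] (φ : A ⟶ G), IsMonHom φ →
      ∃ g, P g ∧ Set.range φ.left = closure {g} := by
    intro A _ _ _ φ _
    obtain ⟨M, gM, i, h1, h2, h3, h4, h5⟩ := exists_image φ
    have : IrreducibleSpace M.left := GeometricallyIrreducible.irreducibleSpace_of_subsingleton M.hom
    have hr : Set.range i.left = closure {i.left (genericPoint M.left)} := by
      rw [← Set.image_singleton, i.left.isClosedMap.closure_image_eq_of_continuous i.left.continuous,
        genericPoint_closure, Set.image_univ]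
    exact ⟨_, ⟨M, gM, i, h1, h2, h3, h4, hr⟩, h5 ▸ hr⟩
  have hPe : ∀ g, P g → g ⤳ e := by
    rintro g ⟨M, _, i, _, _, _, _, hr⟩
    rw [specializes_iff_mem_closure, ← hr]
    exact ⟨Grp57.unitPt M, Grp57.left_apply' _ _ _ (IsMonHom.one_hom i) _⟩
  have hne : ∃ g, P g := by
    have : GeometricallyIntegral (𝟙_ (Over (Spec (CommRingCat.of k)))).hom :=
      ⟨fun L _ y Z p q h => by
        have : IsIso (𝟙_ (Over (Spec (CommRingCat.of k)))).hom :=
          inferInstanceAs (IsIso (𝟙 (Spec (CommRingCat.of k))))
        have : IsIso q := h.isIso_snd_of_isIso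
        have : Nonempty Z := ⟨inv q (IsLocalRing.closedPoint L)⟩
        exact isIntegral_of_isOpenImmersion q⟩
    have : IsProper (𝟙_ (Over (Spec (CommRingCat.of k)))).hom :=
      inferInstanceAs (IsProper (𝟙 (Spec (CommRingCat.of k))))
    obtain ⟨g, hg, -⟩ := mkP (𝟙_ (Over (Spec (CommRingCat.of k)))) η[G] inferInstance
    exact ⟨g, hg⟩
  obtain ⟨g0, ⟨M, gM, i, h1, h2, h3, h4, hr⟩, hmin⟩ := exists_minimal_generization e hPe hne
  refine ⟨M, gM, i, h1, h2, h3, h4, fun A _ _ _ _ φ hφ => ?_⟩
  have := geometricallyIntegral_of_connectedSpace A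
  have := geometricallyIntegral_tensor M A
  have : IsProper (M ⊗ A).hom :=
    inferInstanceAs (IsProper (pullback.fst M.hom A.hom ≫ M.hom))
  let ψ : M ⊗ A ⟶ G := (fst M A ≫ i) * (snd M A ≫ φ)
  have : IsMonHom ψ := by
    show IsMonHom ((fst M A ≫ i) * (snd M A ≫ φ))
    rw [Hom.mul_def]
    infer_instance
  obtain ⟨g1, hg1, hr1⟩ := mkP (M ⊗ A) ψ inferInstance
  have hi' : Set.range i.left ⊆ Set.range ψ.left :=
    range_subset_of_comp (lift (𝟙 M) (toUnit M ≫ η[A])) i ψ (by
      simp [ψ, comp_mul, ← Hom.one_def])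
  have hφ' : Set.range φ.left ⊆ Set.range ψ.left :=
    range_subset_of_comp (lift (toUnit A ≫ η[M]) (𝟙 A)) φ ψ (by
      simp [ψ, comp_mul, ← Hom.one_def])
  rw [hr1, hr] at hi'
  have hg : g1 = g0 := hmin g1 hg1
    (specializes_iff_mem_closure.2 (hi' (subset_closure (Set.mem_singleton g0))))
  rw [hr1, hg, ← hr] at hφ'
  have : IsIntegral A.left := GeometricallyIntegral.isIntegral_of_subsingleton A.hom
  exact exists_lift_of_range_subset i φ hφ'

end Groth.Agent.Alb96
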