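import Mathlib
import Groth.Agent.Grp57.Component
import Groth.Agent.AlgGrp79.AbelianBasic

/-!
Proper connected geometrically reduced group schemes over a field are commutative, and proper
geometrically integral schemes over a field have only constant global functions.
-/

universe u

open CategoryTheory CategoryTheory.Limits MonoidalCategory CartesianMonoidalCategory MonObj GrpObj AlgebraicGeometry
open scoped TensorProduct

set_option autoImplicit false

namespace Groth.Agent.Alb96

variable {k : Type u} [Field k]

/-- A connected group scheme over a field is geometrically irreducible. -/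
theorem geometricallyIrreducible_of_connectedSpace (G : Over (Spec (CommRingCat.of k))) [GrpObj G]
    [ConnectedSpace G.left] : GeometricallyIrreducible G.hom := by
  refine ⟨fun L _ y Z p q h => ?_⟩
  obtain ⟨φ, rfl⟩ := Spec.map_surjective y
  have h1 := Grp57.isIrreducible_preimage_connectedComponent_unit G φ.hom
  rw [PreconnectedSpace.connectedComponent_eq_univ, Set.preimage_univ] at h1
  have h2 : IrreducibleSpace (Grp57.bc G φ.hom).left :=
    { isPreirreducible_univ := h1.2, toNonempty := ⟨h1.1.some⟩ }
  have e : IsPullback p q G.hom (Spec.map φ) := h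
  show IrreducibleSpace Z
  have : IrreducibleSpace ↥(pullback G.hom (Spec.map φ)) := h2
  let ho := e.isoPullback.inv.homeomorph
  have h3 : IsIrreducible (Set.univ : Set Z) := by
    rw [← ho.surjective.range_eq, ← Set.image_univ]
    exact (IrreducibleSpace.isIrreducible_univ _).image ho ho.continuous.continuousOn
  exact { isPreirreducible_univ := h3.2, toNonempty := ⟨h3.1.some⟩ }

/-- A proper connected geometrically reduced group scheme over a field is geometrically integral. -/
theorem geometricallyIntegral_of_connectedSpace (G : Over (Spec (CommRingCat.of k))) [GrpObj G]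
    [GeometricallyReduced G.hom] [ConnectedSpace G.left] : GeometricallyIntegral G.hom :=
  have := geometricallyIrreducible_of_connectedSpace G
  GeometricallyIntegral.of_geometricallyReduced_of_geometricallyIrreducible _

/-- Abelian varieties are commutative. -/
theorem isCommMonObj_of_connected (G : Over (Spec (CommRingCat.of k))) [GrpObj G] [IsProper G.hom]
    [GeometricallyReduced G.hom] [ConnectedSpace G.left] : IsCommMonObj G :=
  have := geometricallyIntegral_of_connectedSpace G
  isCommMonObj_of_isProper_of_geometricallyIntegral G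

theorem algebraMap_bijective_of_isDomain {K : Type u} [Field K] [Algebra k K] [IsAlgClosed K]
    {L : Type u} [Field L] [Algebra k L] [Module.Finite k L] [IsDomain (K ⊗[k] L)] :
    Function.Bijective (algebraMap k L) := by
  have h1 : Function.Bijective (algebraMap K (K ⊗[k] L)) :=
    IsAlgClosed.algebraMap_bijective_of_isIntegral (k := K) (K := K ⊗[k] L)
  have h2 : Module.finrank K (K ⊗[k] L) = 1 := by
    rw [(LinearEquiv.ofBijective (Algebra.linearMap K (K ⊗[k] L)) h1).symm.finrank_eq,
      Module.finrank_self]
  rw [Module.finrank_baseChange] at h2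
  refine ⟨(algebraMap k L).injective, fun w => ?_⟩
  obtain ⟨c, hc⟩ := (finrank_eq_one_iff_of_nonzero' (1 : L) one_ne_zero).mp h2 w
  exact ⟨c, by rw [← hc, Algebra.smul_def, _root_.mul_one]⟩

/-- A proper geometrically integral scheme over a field has only constant global functions. -/
theorem antiAffine_of_geometricallyIntegral (X : Over (Spec (CommRingCat.of k))) [IsProper X.hom]
    [GeometricallyIntegral X.hom] :
    Function.Bijective ((Scheme.ΓSpecIso (CommRingCat.of k)).inv ≫ X.hom.appTop).hom := by
  have : IsIntegral X.left := GeometricallyIntegral.isIntegral_of_subsingleton X.hom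
  let str : CommRingCat.of k ⟶ Γ(X.left, ⊤) := (Scheme.ΓSpecIso (CommRingCat.of k)).inv ≫ X.hom.appTop
  obtain ⟨x⟩ := (inferInstance : Nonempty X.left)
  obtain ⟨_, ⟨U, hU, rfl⟩, hxU, -⟩ :=
    X.left.isBasis_affineOpens.exists_subset_of_mem_open (Set.mem_univ x) isOpen_univ
  have : Nonempty U := ⟨⟨x, hxU⟩⟩
  let res : Γ(X.left, ⊤) ⟶ Γ(X.left, U) := X.left.presheaf.map (homOfLE le_top).op
  letI aL : Algebra k Γ(X.left, ⊤) := str.hom.toAlgebra
  letI aB : Algebra k Γ(X.left, U) := (str ≫ res).hom.toAlgebra
  let r : Γ(X.left, ⊤) →ₐ[k] Γ(X.left, U) := { res.hom with commutes' := fun _ => rfl }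
  letI : Field Γ(X.left, ⊤) := (isField_of_universallyClosed k X.hom).toField
  have hfin : Module.Finite k Γ(X.left, ⊤) :=
    (finite_appTop_of_universallyClosed k X.hom).comp
      (RingHom.Finite.of_surjective _
        (ConcreteCategory.bijective_of_isIso (Scheme.ΓSpecIso (CommRingCat.of k)).inv).2)
  let K := AlgebraicClosure k
  let g : Spec (CommRingCat.of K) ⟶ Spec (CommRingCat.of k) :=
    Spec.map (CommRingCat.ofHom (algebraMap k K))
  have : IsIntegral (pullback X.hom g) :=
    GeometricallyIntegral.geometrically_isIntegral _ _ _ (.of_hasPullback _ _)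
  have hstr : hU.fromSpec ≫ X.hom = Spec.map (CommRingCat.ofHom (algebraMap k Γ(X.left, U))) := by
    rw [show CommRingCat.ofHom (algebraMap k Γ(X.left, U)) = str ≫ res from rfl, Spec.map_comp,
      ← hU.fromSpec_toSpecΓ, Category.assoc]
    congr 1
    rw [Spec.map_comp, ← Category.assoc, ← Scheme.toSpecΓ_naturality, Category.assoc]
    simp
  let P := pullback hU.fromSpec (pullback.fst X.hom g)
  have hne : Nonempty P := by
    obtain ⟨z, hz⟩ := (inferInstance : Surjective (pullback.fst X.hom g)).surj x
    obtain ⟨w, hw⟩ := (show x ∈ Set.range hU.fromSpec by rw [hU.range_fromSpec]; exact hxU)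
    obtain ⟨p, -⟩ := Scheme.Pullback.exists_preimage_pullback (f := hU.fromSpec)
      (g := pullback.fst X.hom g) w z (hw.trans hz.symm)
    exact ⟨p⟩
  have := hU.isOpenImmersion_fromSpec
  have : IsIntegral P := isIntegral_of_isOpenImmersion (pullback.snd hU.fromSpec (pullback.fst X.hom g))
  let e : P ≅ Spec (CommRingCat.of (Γ(X.left, U) ⊗[k] K)) :=
    pullbackRightPullbackFstIso X.hom g hU.fromSpec ≪≫
      pullback.congrHom hstr rfl ≪≫ pullbackSpecIso k Γ(X.left, U) K
  have : IsIntegral (Spec (CommRingCat.of (Γ(X.left, U) ⊗[k] K))) :=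
    have : Nonempty (Spec (CommRingCat.of (Γ(X.left, U) ⊗[k] K))) := ⟨e.hom hne.some⟩
    isIntegral_of_isOpenImmersion e.inv
  have : IsDomain (Γ(X.left, U) ⊗[k] K) :=
    (affine_isIntegral_iff (CommRingCat.of (Γ(X.left, U) ⊗[k] K))).mp this
  have : IsDomain (K ⊗[k] Γ(X.left, U)) :=
    (Algebra.TensorProduct.comm k K Γ(X.left, U)).toMulEquiv.isDomain _
  have hr : Function.Injective r := by
    have h1 : Function.Injective r.toRingHom := r.toRingHom.injective
    exact h1
  have : IsDomain (K ⊗[k] Γ(X.left, ⊤)) := by
    have hinj : Function.Injective (Algebra.TensorProduct.map (AlgHom.id k K) r) :=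
      Module.Flat.lTensor_preserves_injective_linearMap r.toLinearMap hr
    exact hinj.isDomain (Algebra.TensorProduct.map (AlgHom.id k K) r).toRingHom
  exact algebraMap_bijective_of_isDomain (K := K) (L := Γ(X.left, ⊤))

end Groth.Agent.Alb96
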