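import Groth.Agent.Alb96.GeomInt
import Groth.Agent.S14577

/-!
Morphisms from a product of pointed varieties to an abelian variety, and Albanese of products.
-/

universe u

open CategoryTheory CategoryTheory.Limits MonoidalCategory CartesianMonoidalCategory MonObj GrpObj AlgebraicGeometry

set_option autoImplicit false

namespace Groth.Agent.Alb96

variable {k : Type u} [Field k]

/-- A pointed morphism from a product is the product of its restrictions to the factors. -/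
theorem eq_mul_of_pointed {X Y C : Over (Spec (CommRingCat.of k))}
    [IsProper X.hom] [GeometricallyIntegral X.hom]
    [IsSeparated Y.hom] [LocallyOfFiniteType Y.hom] [GeometricallyIntegral Y.hom]
    [GrpObj C] [IsSeparated C.hom]
    (x₀ : 𝟙_ (Over (Spec (CommRingCat.of k))) ⟶ X) (y₀ : 𝟙_ (Over (Spec (CommRingCat.of k))) ⟶ Y)
    (g : X ⊗ Y ⟶ C) (hg : lift x₀ y₀ ≫ g = η[C]) :
    g = (fst X Y ≫ lift (𝟙 X) (toUnit X ≫ y₀) ≫ g) * (snd X Y ≫ lift (toUnit Y ≫ x₀) (𝟙 Y) ≫ g) := by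
  set gX := lift (𝟙 X) (toUnit X ≫ y₀) ≫ g with hgX
  set gY := lift (toUnit Y ≫ x₀) (𝟙 Y) ≫ g with hgY
  have : IsIntegral Y.left := GeometricallyIntegral.isIntegral_of_subsingleton Y.hom
  have : IsLocallyNoetherian Y.left := LocallyOfFiniteType.isLocallyNoetherian Y.hom
  have hx : x₀ ≫ gX = 1 := by
    rw [hgX, ← Category.assoc, comp_lift, Category.comp_id, comp_toUnit_assoc, Hom.one_def]
    simp [hg]
  have hy : y₀ ≫ gY = 1 := by
    rw [hgY, ← Category.assoc, comp_lift, Category.comp_id, comp_toUnit_assoc, Hom.one_def]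
    simp [hg]
  let f : X ⊗ Y ⟶ C := g * ((fst X Y ≫ gX) * (snd X Y ≫ gY))⁻¹
  have e1 : (X ◁ y₀) ≫ fst X Y = fst X _ := whiskerLeft_fst _ _
  have e2 : (X ◁ y₀) ≫ snd X Y = snd X _ ≫ y₀ := whiskerLeft_snd _ _
  have e3 : (X ◁ y₀) ≫ g = fst X _ ≫ gX := by
    rw [hgX, ← Category.assoc (fst X _)]
    congr 1
    ext <;> simp [toUnit_unique (snd X (𝟙_ _)) (toUnit _)]
  have hf0 : lift x₀ y₀ ≫ f = 1 := by
    simp only [f, comp_mul, GrpObj.comp_inv, lift_fst_assoc, lift_snd_assoc, hg, hx, hy]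
    rw [show η[C] = (1 : 𝟙_ (Over (Spec (CommRingCat.of k))) ⟶ C) by simp [Hom.one_def, toUnit_unit]]
    simp
  have hf1 : (X ◁ y₀) ≫ f = 1 := by
    simp only [f, comp_mul, GrpObj.comp_inv, reassoc_of% e1, reassoc_of% e2, e3, hy, comp_one]
    simp
  have hf := Groth.Agent.S14577.result k X Y C (antiAffine_of_geometricallyIntegral X) x₀ y₀ f
    (by rw [hf1, hf0, comp_one])
  have hf2 : lift (toUnit Y ≫ x₀) (𝟙 Y) ≫ f = 1 := by
    simp only [f, comp_mul, GrpObj.comp_inv, lift_fst_assoc, lift_snd_assoc, Category.assoc, hx,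
      comp_one, Category.id_comp, ← hgY]
    simp
  rw [hf2, comp_one] at hf
  exact mul_inv_eq_one.mp hf

theorem albanese_prod {X Y : Over (Spec (CommRingCat.of k))} [IsProper X.hom] [IsProper Y.hom]
    [GeometricallyIntegral X.hom] [GeometricallyIntegral Y.hom]
    (x₀ : 𝟙_ (Over (Spec (CommRingCat.of k))) ⟶ X) (y₀ : 𝟙_ (Over (Spec (CommRingCat.of k))) ⟶ Y)
    (A : Over (Spec (CommRingCat.of k))) [GrpObj A] (albX : X ⟶ A) (halbX : x₀ ≫ albX = η[A])
    (hunivA : ∀ (C : Over (Spec (CommRingCat.of k))) [GrpObj C] [IsProper C.hom]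
      [GeometricallyReduced C.hom] [ConnectedSpace ↥C.left] (g : X ⟶ C),
      x₀ ≫ g = η[C] → ∃! h : A ⟶ C, IsMonHom h ∧ albX ≫ h = g)
    (B : Over (Spec (CommRingCat.of k))) [GrpObj B] (albY : Y ⟶ B) (halbY : y₀ ≫ albY = η[B])
    (hunivB : ∀ (C : Over (Spec (CommRingCat.of k))) [GrpObj C] [IsProper C.hom]
      [GeometricallyReduced C.hom] [ConnectedSpace ↥C.left] (g : Y ⟶ C),
      y₀ ≫ g = η[C] → ∃! h : B ⟶ C, IsMonHom h ∧ albY ≫ h = g)
    (C : Over (Spec (CommRingCat.of k))) [GrpObj C] [IsProper C.hom] [GeometricallyReduced C.hom]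
    [ConnectedSpace ↥C.left] (g : X ⊗ Y ⟶ C) (hg : lift x₀ y₀ ≫ g = η[C]) :
    ∃! h : A ⊗ B ⟶ C, IsMonHom h ∧ (albX ⊗ₘ albY) ≫ h = g := by
  have := isCommMonObj_of_connected C
  let gX := lift (𝟙 X) (toUnit X ≫ y₀) ≫ g
  let gY := lift (toUnit Y ≫ x₀) (𝟙 Y) ≫ g
  have hx : x₀ ≫ gX = η[C] := by simp [gX, comp_lift_assoc, hg]
  have hy : y₀ ≫ gY = η[C] := by simp [gY, comp_lift_assoc, hg]
  obtain ⟨hA, ⟨hA1, hA2⟩, hAu⟩ := hunivA C gX hx
  obtain ⟨hB, ⟨hB1, hB2⟩, hBu⟩ := hunivB C gY hy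
  refine ⟨(fst A B ≫ hA) * (snd A B ≫ hB), ⟨by rw [Hom.mul_def]; infer_instance, ?_⟩, ?_⟩
  · rw [comp_mul, tensorHom_fst_assoc, tensorHom_snd_assoc, hA2, hB2]
    exact (eq_mul_of_pointed x₀ y₀ g hg).symm
  · rintro h ⟨hh, hh2⟩
    let iA : A ⟶ A ⊗ B := lift (𝟙 A) (toUnit A ≫ η[B])
    let iB : B ⟶ A ⊗ B := lift (toUnit B ≫ η[A]) (𝟙 B)
    have h1 : iA ≫ h = hA := by
      refine hAu _ ⟨inferInstance, ?_⟩
      simp only [gX, iA, ← hh2, ← Category.assoc]
      congr 1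
      ext <;> simp [halbY]
    have h2 : iB ≫ h = hB := by
      refine hBu _ ⟨inferInstance, ?_⟩
      simp only [gY, iB, ← hh2, ← Category.assoc]
      congr 1
      ext <;> simp [halbX]
    have h3 : (𝟙 (A ⊗ B)) = (fst A B ≫ iA) * (snd A B ≫ iB) := by
      apply CartesianMonoidalCategory.hom_ext <;>
        rw [Category.id_comp, MonObj.mul_comp] <;>
        simp [iA, iB, ← Hom.one_def]
    rw [← h1, ← h2, ← Category.assoc, ← Category.assoc, ← MonObj.mul_comp, ← h3, Category.id_comp]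

end Groth.Agent.Alb96
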