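import Groth.Agent.Alb96.Hom
import Groth.Agent.Crv77.CMCurve

/-!
A scheme with only constant functions maps constantly into any affine open.
-/

universe u

open CategoryTheory CategoryTheory.Limits MonoidalCategory CartesianMonoidalCategory MonObj GrpObj AlgebraicGeometry
open Groth.Agent.Crv77

set_option autoImplicit false

namespace Groth.Agent.Alb96

variable {k : Type u} [Field k]

theorem eq_const_of_range_subsingleton (X : Scheme.{u}) [X.Over (Spec (CommRingCat.of k))]
    (hX : OnlyConst k X) {Y : Scheme.{u}} (x₀ : Spec (CommRingCat.of k) ⟶ X)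
    (hx₀ : x₀ ≫ (X ↘ Spec (CommRingCat.of k)) = 𝟙 _)
    (f : X ⟶ Y) (hf : (Set.range f).Subsingleton) :
    f = (X ↘ Spec (CommRingCat.of k)) ≫ x₀ ≫ f := by
  set s := X ↘ Spec (CommRingCat.of k)
  let p := f (x₀ (IsLocalRing.closedPoint k))
  obtain ⟨_, ⟨U, hU, rfl⟩, hpU, -⟩ :=
    Y.isBasis_affineOpens.exists_subset_of_mem_open (Set.mem_univ p) isOpen_univ
  have hrange : Set.range f ⊆ Set.range (Scheme.Opens.ι U) := by
    rintro _ ⟨x, rfl⟩
    rw [Scheme.Opens.range_ι, hf ⟨x, rfl⟩ ⟨_, rfl⟩]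
    exact hpU
  let l := IsOpenImmersion.lift (Scheme.Opens.ι U) f hrange
  have hl : l ≫ Scheme.Opens.ι U = f := IsOpenImmersion.lift_fac _ _ _
  have : IsAffine (Scheme.Opens.toScheme U) := hU
  suffices h : l = s ≫ x₀ ≫ l by
    rw [← hl]
    conv_lhs => rw [h]
    simp only [Category.assoc]
  apply ext_of_isAffine
  rw [Scheme.Hom.comp_appTop, Scheme.Hom.comp_appTop]
  ext a
  obtain ⟨c, hc⟩ := hX (l.appTop.hom a)
  simp only [CommRingCat.comp_apply]
  rw [hc]
  show _ = s.appTop.hom (x₀.appTop.hom (s.appTop.hom _))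
  have h2 : ∀ z, x₀.appTop.hom (s.appTop.hom z) = z := fun z => by
    rw [← CommRingCat.comp_apply, ← Scheme.Hom.comp_appTop, hx₀]
    simp
  rw [h2]
  rfl

theorem albanese_const_iff {X : Scheme.{u}} [X.Over (Spec (CommRingCat.of k))]
    (h0 : Module.finrank k (Coh.HH X (Coh.structureModule X) 0) = 1)
    (x₀ : 𝟙_ (Over (Spec (CommRingCat.of k))) ⟶ Over.mk (X ↘ Spec (CommRingCat.of k)))
    (A : Over (Spec (CommRingCat.of k))) [GrpObj A] [IsProper A.hom] [GeometricallyIntegral A.hom]
    (alb : Over.mk (X ↘ Spec (CommRingCat.of k)) ⟶ A) (halb : x₀ ≫ alb = η[A])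
    (huniv : ∀ (B : Over (Spec (CommRingCat.of k))) [GrpObj B] [IsProper B.hom] [GeometricallyReduced B.hom]
      [ConnectedSpace ↥B.left] (g : Over.mk (X ↘ Spec (CommRingCat.of k)) ⟶ B),
      x₀ ≫ g = η[B] → ∃! h : A ⟶ B, IsMonHom h ∧ alb ≫ h = g) :
    (Set.range alb.left.base).Subsingleton ↔ IsIso A.hom := by
  constructor
  · intro h
    have : Nonempty X := ⟨x₀.left (IsLocalRing.closedPoint k)⟩
    have hX := onlyConst_of_finrank k h0
    have h1 : alb.left = (X ↘ Spec (CommRingCat.of k)) ≫ x₀.left ≫ alb.left :=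
      eq_const_of_range_subsingleton X hX x₀.left (Over.w x₀) alb.left h
    rw [← Over.comp_left, halb] at h1
    have h2 : alb = toUnit _ ≫ η[A] := Over.OverMorphism.ext (h1.trans (by simp [Over.comp_left]))
    have : IrreducibleSpace A.left := GeometricallyIrreducible.irreducibleSpace_of_subsingleton A.hom
    have hone : η[A] = (1 : 𝟙_ (Over (Spec (CommRingCat.of k))) ⟶ A) := by simp [Hom.one_def, toUnit_unit]
    obtain ⟨u0, -, hu⟩ := huniv A alb halb
    have h3 : IsMonHom (toUnit A ≫ η[A]) := inferInstance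
    have h4 : 𝟙 A = toUnit A ≫ η[A] := (hu _ ⟨inferInstance, Category.comp_id _⟩).trans
      (hu _ ⟨h3, by rw [comp_toUnit_assoc, ← h2]⟩).symm
    refine ⟨η[A].left, ?_, ?_⟩
    · have h5 := congrArg CommaMorphism.left h4
      simp only [Over.id_left, Over.comp_left, Over.toUnit_left] at h5
      exact h5.symm
    · exact Over.w η[A]
  · intro h
    have : Subsingleton A.left := A.hom.homeomorph.toEquiv.subsingleton_congr.2
      (inferInstanceAs (Subsingleton (PrimeSpectrum k)))
    exact Set.subsingleton_of_subsingleton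

end Groth.Agent.Alb96
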