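import Groth.Agent.Alb96.Prod

/-!
Pointed morphisms of abelian varieties are homomorphisms.
-/

universe u

open CategoryTheory CategoryTheory.Limits MonoidalCategory CartesianMonoidalCategory MonObj GrpObj AlgebraicGeometry

set_option autoImplicit false

namespace Groth.Agent.Alb96

variable {k : Type u} [Field k]

theorem isMonHom_of_pointed {A B : Over (Spec (CommRingCat.of k))} [GrpObj A] [IsProper A.hom]
    [GeometricallyIntegral A.hom] [GrpObj B] [IsSeparated B.hom] (f : A ⟶ B) (hf : η[A] ≫ f = η[B]) :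
    IsMonHom f := by
  have h0 : lift η[A] η[A] ≫ μ[A] ≫ f = η[B] := by
    rw [← Category.assoc, ← Hom.mul_def, show η[A] * η[A] = η[A] by
      rw [show η[A] = (1 : 𝟙_ (Over (Spec (CommRingCat.of k))) ⟶ A) by simp [Hom.one_def, toUnit_unit]]
      simp]
    exact hf
  have h := eq_mul_of_pointed η[A] η[A] (μ[A] ≫ f) h0
  have e1 : lift (𝟙 A) (toUnit A ≫ η[A]) ≫ μ[A] = 𝟙 A := by
    rw [← Hom.mul_def, ← Hom.one_def, _root_.mul_one]
  have e2 : lift (toUnit A ≫ η[A]) (𝟙 A) ≫ μ[A] = 𝟙 A := by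
    rw [← Hom.mul_def, ← Hom.one_def, _root_.one_mul]
  rw [reassoc_of% e1, reassoc_of% e2, Hom.mul_def] at h
  refine ⟨hf, h.trans ?_⟩
  congr 1

theorem albanese_factor_translate {X A A' : Over (Spec (CommRingCat.of k))} [GrpObj A] [IsProper A.hom]
    [GeometricallyIntegral A.hom] [GrpObj A'] [IsProper A'.hom] [GeometricallyReduced A'.hom]
    [ConnectedSpace A'.left] (x₀ : 𝟙_ (Over (Spec (CommRingCat.of k))) ⟶ X) (alb : X ⟶ A)
    (halb : x₀ ≫ alb = η[A])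
    (huniv : ∀ (B : Over (Spec (CommRingCat.of k))) [GrpObj B] [IsProper B.hom] [GeometricallyReduced B.hom]
      [ConnectedSpace ↥B.left] (g : X ⟶ B), x₀ ≫ g = η[B] → ∃! h : A ⟶ B, IsMonHom h ∧ alb ≫ h = g)
    (φ : X ⟶ A') :
    ∃ h : A ⟶ A', IsMonHom h ∧ (alb ≫ h) * (toUnit X ≫ x₀ ≫ φ) = φ ∧
      ∀ g : A ⟶ A', alb ≫ g = φ → g = h * (toUnit A ≫ x₀ ≫ φ) := by
  let c : 𝟙_ (Over (Spec (CommRingCat.of k))) ⟶ A' := x₀ ≫ φ
  have hone : η[A'] = (1 : 𝟙_ (Over (Spec (CommRingCat.of k))) ⟶ A') := by simp [Hom.one_def, toUnit_unit]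
  obtain ⟨h, ⟨hm, hh⟩, hu⟩ := huniv A' (φ * (toUnit X ≫ c)⁻¹) (by
    rw [MonObj.comp_mul, GrpObj.comp_inv, comp_toUnit_assoc, hone]
    simp [c, toUnit_unit])
  refine ⟨h, hm, by rw [hh, inv_mul_cancel_right], fun g hg => ?_⟩
  let g' : A ⟶ A' := g * (toUnit A ≫ c)⁻¹
  have hg' : IsMonHom g' := isMonHom_of_pointed g' (by
    simp only [g', MonObj.comp_mul, GrpObj.comp_inv, comp_toUnit_assoc]
    rw [show η[A] ≫ g = c by rw [← halb, Category.assoc, hg]]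
    simp [hone, toUnit_unit])
  have : g' = h := hu g' ⟨hg', by
    simp only [g', MonObj.comp_mul, GrpObj.comp_inv, comp_toUnit_assoc, hg]⟩
  rw [← this]
  simp [g', c]

theorem albanese_change_basepoint {X A : Over (Spec (CommRingCat.of k))} [GrpObj A]
    (x₀ x₁ : 𝟙_ (Over (Spec (CommRingCat.of k))) ⟶ X) (alb : X ⟶ A) (halb : x₀ ≫ alb = η[A])
    (huniv : ∀ (B : Over (Spec (CommRingCat.of k))) [GrpObj B] [IsProper B.hom] [GeometricallyReduced B.hom]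
      [ConnectedSpace ↥B.left] (g : X ⟶ B), x₀ ≫ g = η[B] → ∃! h : A ⟶ B, IsMonHom h ∧ alb ≫ h = g) :
    x₁ ≫ (alb * (toUnit X ≫ x₁ ≫ alb)⁻¹) = η[A] ∧
      ∀ (B : Over (Spec (CommRingCat.of k))) [GrpObj B] [IsProper B.hom] [GeometricallyReduced B.hom]
        [ConnectedSpace ↥B.left] (g : X ⟶ B), x₁ ≫ g = η[B] →
          ∃! h : A ⟶ B, IsMonHom h ∧ (alb * (toUnit X ≫ x₁ ≫ alb)⁻¹) ≫ h = g := by
  constructor
  · simp [MonObj.comp_mul, GrpObj.comp_inv, Hom.one_def, toUnit_unit]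
  intro B _ _ _ _ g hg
  have hone : η[B] = (1 : 𝟙_ (Over (Spec (CommRingCat.of k))) ⟶ B) := by simp [Hom.one_def, toUnit_unit]
  rw [hone] at hg
  obtain ⟨h, ⟨hm, hh⟩, hu⟩ := huniv B (g * (toUnit X ≫ x₀ ≫ g)⁻¹) (by
    rw [MonObj.comp_mul, GrpObj.comp_inv, comp_toUnit_assoc, hone]
    simp [toUnit_unit])
  have key : ∀ f : A ⟶ B, IsMonHom f →
      (alb * (toUnit X ≫ x₁ ≫ alb)⁻¹) ≫ f = (alb ≫ f) * (toUnit X ≫ x₁ ≫ alb ≫ f)⁻¹ := fun f _ => by
    simp only [MonObj.mul_comp, GrpObj.inv_comp, Category.assoc]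
  refine ⟨h, ⟨hm, ?_⟩, ?_⟩
  · rw [key h hm, hh]
    simp only [MonObj.comp_mul, GrpObj.comp_inv, comp_toUnit_assoc, hg]
    simp [toUnit_unit]
  · rintro f ⟨hf, hfg⟩
    refine hu f ⟨hf, ?_⟩
    rw [key f hf] at hfg
    have hc : x₀ ≫ alb ≫ f = 1 := by
      rw [← Category.assoc, halb, IsMonHom.one_hom, hone]
    have h2 : x₀ ≫ g = (x₁ ≫ alb ≫ f)⁻¹ := by
      rw [← hfg]
      simp [MonObj.comp_mul, GrpObj.comp_inv, comp_toUnit_assoc, hc, toUnit_unit]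
    rw [h2, GrpObj.comp_inv, _root_.inv_inv, ← hfg, inv_mul_cancel_right]

end Groth.Agent.Alb96
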